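import Groth.Agent.Lib.MilnorFib6.AlgClosure
import Mathlib

/-! # Automorphisms of finite extensions of strictly henselian DVRs fixing a root of a uniformizer
are products of `r`-th powers, for `r` invertible in the residue field. -/

set_option autoImplicit false
universe u

open IsLocalRing Polynomial

namespace Groth.Agent.TameHom15

theorem eq_self_of_tame_trivial {S : Type u} [CommRing S] [IsDomain S] [IsDiscreteValuationRing S]
    (s : S →+* S) (π : S) (hπ : Irreducible π) (q : ℕ) (hq : (q : ResidueField S) ≠ 0)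
    (hord : ∀ x, (⇑s)^[q] x = x) (h1 : ∀ x, residue S (s x) = residue S x)
    (c : S) (hc : s π = c * π) (hc1 : residue S c = 1) (x : S) : s x = x := by
  have hm := (IsDiscreteValuationRing.irreducible_iff_uniformizer π).1 hπ
  have hres : ∀ y : S, residue S y = 0 ↔ π ∣ y := fun y => by
    rw [residue_eq_zero_iff, hm, Ideal.mem_span_singleton]
  have key : ∀ n : ℕ, ∀ x : S, π ^ (n + 1) ∣ s x - x := by
    intro n
    induction n with
    | zero =>
      intro x
      rw [zero_add, pow_one, ← hres, map_sub, h1, sub_self]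
    | succ n ih =>
      intro x
      obtain ⟨y, hy⟩ := ih x
      set d := s x - x with hd
      have hsd : π ^ (n + 2) ∣ s d - d := by
        rw [hy, map_mul, map_pow, hc, mul_pow]
        have : π ∣ c ^ (n + 1) * s y - y := by
          rw [← hres, map_sub, map_mul, map_pow, hc1, h1, one_pow, one_mul, sub_self]
        obtain ⟨w, hw⟩ := this
        exact ⟨w, by linear_combination π ^ (n + 1) * hw⟩
      have hpres : ∀ z, π ^ (n + 2) ∣ z → π ^ (n + 2) ∣ s z := by
        rintro z ⟨w, rfl⟩
        exact ⟨c ^ (n + 2) * s w, by rw [map_mul, map_pow, hc]; ring⟩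
      have hit : ∀ j : ℕ, π ^ (n + 2) ∣ (⇑s)^[j] x - x - j * d := by
        intro j
        induction j with
        | zero => simp
        | succ j hj =>
          have h2 := hpres _ hj
          rw [map_sub, map_sub, map_mul, map_natCast] at h2
          have h3 : (⇑s)^[j + 1] x - x - ((j + 1 : ℕ) : S) * d
              = (s ((⇑s)^[j] x) - s x - (j : S) * s d) + (j : S) * (s d - d) := by
            rw [Function.iterate_succ_apply', hd]
            push_cast
            ring
          rw [h3]
          exact dvd_add h2 (hsd.mul_left _)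
      have h4 := hit q
      rw [hord, sub_self, zero_sub, dvd_neg] at h4
      have hu : IsUnit (q : S) := by
        by_contra h
        exact hq (by rw [← map_natCast (residue S), residue_eq_zero_iff]; exact h)
      exact (hu.dvd_mul_left).1 h4
  by_contra hne
  obtain ⟨n, v, hv⟩ := IsDiscreteValuationRing.eq_unit_mul_pow_irreducible (sub_ne_zero.2 hne) hπ
  have h := key n x
  rw [hv, IsUnit.dvd_mul_left v.isUnit, pow_succ'] at h
  obtain ⟨w, hw⟩ := h
  have : π ^ n * 1 = π ^ n * (π * w) := by rw [mul_one]; exact hw.trans (by ring)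
  exact hπ.not_isUnit (IsUnit.of_mul_eq_one w (mul_left_cancel₀ (pow_ne_zero n hπ.ne_zero) this).symm)

theorem exists_pow_of_cyclic {C : Type u} [Group C] [IsCyclic C] (r a : ℕ)
    (htop : ∀ x : C, (x ^ a) ^ r = 1) (x₀ : C) (hx₀ : orderOf (x₀ ^ a) = r)
    (y : C) (hy : y ^ a = 1) : ∃ z : C, y = z ^ r := by
  obtain ⟨g, hg⟩ := IsCyclic.exists_generator (α := C)
  obtain ⟨i, hi⟩ := Subgroup.mem_zpowers_iff.1 (hg x₀)
  obtain ⟨j, hj⟩ := Subgroup.mem_zpowers_iff.1 (hg y)
  have hord : orderOf (g ^ a) = r := by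
    refine Nat.dvd_antisymm (orderOf_dvd_of_pow_eq_one (htop g)) ?_
    have : x₀ ^ a = (g ^ a) ^ i := by
      rw [← hi, ← zpow_natCast, ← zpow_natCast g a, ← zpow_mul, ← zpow_mul, mul_comm]
    rw [← hx₀, this]
    exact orderOf_dvd_of_mem_zpowers (Subgroup.zpow_mem_zpowers _ i)
  have : (g ^ a) ^ j = 1 := by
    rw [← zpow_natCast g a, ← zpow_mul, mul_comm, zpow_mul, hj, zpow_natCast, hy]
  rw [← orderOf_dvd_iff_zpow_eq_one, hord] at this
  obtain ⟨b, rfl⟩ := this
  exact ⟨g ^ b, by rw [← hj, ← zpow_natCast, ← zpow_mul, mul_comm]⟩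

set_option maxHeartbeats 1000000 in
theorem exists_eq_pow_mul_pow (R : Type u) [CommRing R] [IsDomain R] [IsDiscreteValuationRing R]
    [HenselianLocalRing R] [IsSepClosed (ResidueField R)]
    (K : Type u) [Field K] [Algebra R K] [IsFractionRing R K]
    (L : Type u) [Field L] [Algebra K L] [Algebra R L] [IsScalarTower R K L]
    [FiniteDimensional K L] [IsGalois K L]
    (r : ℕ) [NeZero r] (hr : IsUnit (r : ResidueField R))
    (ϖ : R) (hϖ : Irreducible ϖ) (ρ : L) (hρ : ρ ^ r = algebraMap R L ϖ)
    (η : R) (hη : IsPrimitiveRoot (residue R η) r)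
    (τ₀ : L ≃ₐ[K] L) (hτ₀ : τ₀ ρ = algebraMap R L η * ρ)
    (σ : L ≃ₐ[K] L) (hσ : σ ρ = ρ) :
    ∃ τ₁ τ₂ : L ≃ₐ[K] L, σ = τ₁ ^ r * τ₂ ^ r := by
  classical
  let S := integralClosure R L
  have hinjRL : Function.Injective (algebraMap R L) := by
    rw [IsScalarTower.algebraMap_eq R K L]
    exact (algebraMap K L).injective.comp (IsFractionRing.injective R K)
  haveI : IsDedekindDomain S := IsIntegralClosure.isDedekindDomain R K L S
  haveI : Module.Finite R S := IsIntegralClosure.finite R K L S
  haveI : IsLocalRing S := MilnorFib6.isLocalRing_of_finite_domain R S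
  haveI hloc : IsLocalHom (algebraMap R S) := by
    refine ⟨fun a ha => ?_⟩
    by_contra h
    have h1 : a ∈ (maximalIdeal S).comap (algebraMap R S) := by
      have hmax := Ideal.isMaximal_comap_of_isIntegral_of_isMaximal (R := R) (maximalIdeal S)
      rw [IsLocalRing.eq_maximalIdeal hmax]
      exact h
    exact h1 ha
  have hϖnu : ¬ IsUnit (algebraMap R S ϖ) := fun h => hϖ.not_isUnit (hloc.map_nonunit ϖ h)
  have hinjRS : Function.Injective (algebraMap R S) :=
    fun x y h => hinjRL (congrArg Subtype.val h)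
  haveI : IsDiscreteValuationRing S :=
    { __ := (inferInstance : IsPrincipalIdealRing S)
      not_a_field' := fun h => by
        have h0 : algebraMap R S ϖ ∈ maximalIdeal S := hϖnu
        rw [h, Ideal.mem_bot] at h0
        exact hϖ.ne_zero (hinjRS (h0.trans (map_zero _).symm)) }
  obtain ⟨π, hπ⟩ := IsDiscreteValuationRing.exists_irreducible S
  let l := ResidueField S
  let k := ResidueField R
  -- trivial residual action
  haveI : Algebra.IsAlgebraic k l := Algebra.IsAlgebraic.of_finite k l
  haveI : IsPurelyInseparable k l := inferInstance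
  have htriv : ∀ (s : S ≃ₐ[R] S) (x : S), residue S (s x) = residue S x := by
    intro s x
    obtain ⟨n, y, hy⟩ := IsPurelyInseparable.pow_mem k (ringExpChar k) (residue S x)
    obtain ⟨y, rfl⟩ := residue_surjective y
    haveI : ExpChar l (ringExpChar k) := expChar_of_injective_algebraMap (algebraMap k l).injective _
    refine iterateFrobenius_inj l (ringExpChar k) n ?_
    rw [iterateFrobenius_def, iterateFrobenius_def, ← map_pow, ← map_pow, ← map_pow]
    rw [← map_pow] at hy
    rw [ResidueField.algebraMap_residue] at hy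
    have hd : residue S (x ^ (ringExpChar k ^ n) - algebraMap R S y) = 0 := by
      rw [map_sub, hy, sub_self]
    rw [residue_eq_zero_iff] at hd
    have hd' : s (x ^ (ringExpChar k ^ n) - algebraMap R S y) ∈ maximalIdeal S := fun h => hd (by
      simpa using h.map s.symm)
    rw [map_sub s, AlgEquiv.commutes, ← residue_eq_zero_iff, map_sub, sub_eq_zero] at hd'
    exact hd'.trans hy
  -- the character
  let G := L ≃ₐ[K] L
  let res : G →* (S ≃ₐ[R] S) := (galRestrict R K L S).toMonoidHom
  have hdvd : ∀ τ : G, π ∣ res τ π := by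
    intro τ
    have hnu : ¬ IsUnit (res τ π) := fun h => hπ.not_isUnit (by simpa using h.map (res τ).symm)
    have : res τ π ∈ maximalIdeal S := hnu
    rwa [(IsDiscreteValuationRing.irreducible_iff_uniformizer π).1 hπ, Ideal.mem_span_singleton] at this
  choose c hc using hdvd
  let θ : G →* l :=
    { toFun := fun τ => residue S (c τ)
      map_one' := by
        have h := hc 1
        rw [map_one, AlgEquiv.one_apply] at h
        rw [← mul_left_cancel₀ hπ.ne_zero ((mul_one π).trans h), map_one]
      map_mul' := fun τ₁ τ₂ => by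
        have h := hc (τ₁ * τ₂)
        rw [map_mul, AlgEquiv.mul_apply, hc τ₂, map_mul, hc τ₁, mul_assoc] at h
        rw [← mul_left_cancel₀ hπ.ne_zero h, map_mul, htriv] }
  let θu := θ.toHomUnits
  haveI : IsCyclic θu.range := inferInstance
  -- the action on the root
  have hρint : IsIntegral R ρ := by
    refine IsIntegral.of_pow (NeZero.pos r) ?_
    rw [hρ]
    exact isIntegral_algebraMap
  let ρ' : S := ⟨ρ, hρint⟩
  have hρr : ρ' ^ r = algebraMap R S ϖ := Subtype.ext hρ
  have hρ0 : ρ' ≠ 0 := fun h => by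
    rw [h, zero_pow (NeZero.ne r)] at hρr
    exact hϖ.ne_zero (hinjRS (hρr.symm.trans (map_zero _).symm))
  obtain ⟨a, v, hv⟩ := IsDiscreteValuationRing.eq_unit_mul_pow_irreducible hρ0 hπ
  have hact : ∀ (τ : G) (z : S), res τ ρ' = z * ρ' → θ τ ^ a = residue S z := by
    intro τ z hz
    rw [hv, map_mul, map_pow, hc τ, mul_pow, ← mul_assoc] at hz
    have h1 : res τ (v : S) * π ^ a * c τ ^ a = z * (v : S) * π ^ a := by
      linear_combination hz
    have h2 : res τ (v : S) * c τ ^ a = z * (v : S) := by
      refine mul_right_cancel₀ (pow_ne_zero a hπ.ne_zero) ?_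
      linear_combination h1
    have h3 := congrArg (residue S) h2
    rw [map_mul, map_mul, map_pow, htriv, mul_comm (residue S z)] at h3
    have hv0 : residue S (v : S) ≠ 0 := (v.isUnit.map (residue S)).ne_zero
    exact mul_left_cancel₀ hv0 h3
  have hres : ∀ (τ : G) (z : S), τ ρ = (z : L) * ρ → res τ ρ' = z * ρ' := fun τ z h =>
    Subtype.ext ((algebraMap_galRestrict_apply R τ ρ').trans h)
  have hη' : IsPrimitiveRoot (residue S (algebraMap R S η)) r := by
    rw [← ResidueField.algebraMap_residue]
    exact hη.map_of_injective (algebraMap k l).injective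
  have hθ0 : θ τ₀ ^ a = residue S (algebraMap R S η) := hact _ _ (hres _ _ hτ₀)
  have hθσ : θ σ ^ a = 1 := by
    have := hact σ 1 (hres σ 1 (by rw [OneMemClass.coe_one, one_mul]; exact hσ))
    rwa [map_one] at this
  have hall : ∀ τ : G, (θ τ ^ a) ^ r = 1 := by
    intro τ
    have hd : ρ' ∣ res τ ρ' := by
      rw [hv, map_mul, map_pow, hc]
      exact ⟨res τ (v : S) * c τ ^ a * ((v⁻¹ : Sˣ) : S), by
        have : ((v⁻¹ : Sˣ) : S) * (v : S) = 1 := v.inv_mul
        linear_combination (-(π ^ a * res τ (v : S) * c τ ^ a)) * this⟩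
    obtain ⟨z, hz⟩ := hd
    rw [mul_comm] at hz
    have hz' : z ^ r = 1 := by
      have := congrArg (· ^ r) hz
      simp only [← map_pow, mul_pow, hρr, AlgEquiv.commutes] at this
      exact (mul_left_injective₀ (hinjRS.ne hϖ.ne_zero |> fun h => by rwa [map_zero] at h)
        ((one_mul _).trans this)).symm
    rw [hact τ z hz, ← map_pow, hz', map_one]
  obtain ⟨z, hz⟩ := exists_pow_of_cyclic r a (C := θu.range)
    (by
      rintro ⟨x, τ, rfl⟩
      exact Subtype.ext (Units.ext (hall τ)))
    ⟨θu τ₀, τ₀, rfl⟩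
    (by
      rw [← Subgroup.orderOf_coe, SubmonoidClass.coe_pow, ← orderOf_units, Units.val_pow_eq_pow_val]
      exact (congrArg orderOf hθ0).trans hη'.eq_orderOf.symm)
    ⟨θu σ, σ, rfl⟩ (Subtype.ext (Units.ext hθσ))
  obtain ⟨_, τ, rfl⟩ := z
  let κ := (τ ^ r)⁻¹ * σ
  have hκ : θu κ = 1 := by
    rw [map_mul, map_inv, map_pow, inv_mul_eq_one]
    exact (congrArg Subtype.val hz).symm
  have hrl : (r : l) ≠ 0 := by
    rw [← map_natCast (algebraMap k l)]
    exact (_root_.map_ne_zero _).2 hr.ne_zero
  have hcop : Nat.Coprime r (orderOf κ) := by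
    rw [Nat.coprime_iff_gcd_eq_one]
    set d := Nat.gcd r (orderOf κ) with hd
    have hdr : d ∣ r := Nat.gcd_dvd_left _ _
    have hpos : 0 < orderOf κ := orderOf_pos κ
    let κ' := κ ^ (orderOf κ / d)
    have hκ' : orderOf κ' = d := orderOf_pow_orderOf_div hpos.ne' (Nat.gcd_dvd_right _ _)
    have hθκ : θ κ = 1 := congrArg Units.val hκ
    have hθκ' : θ κ' = 1 := by rw [map_pow, hθκ, one_pow]
    have hord : ∀ x, (⇑((res κ').toRingEquiv.toRingHom))^[d] x = x := by
      intro x
      have h : ∀ j : ℕ, ∀ y, (⇑((res κ').toRingEquiv.toRingHom))^[j] y = res (κ' ^ j) y := by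
        intro j
        induction j with
        | zero => intro y; simp
        | succ j ih => intro y; rw [Function.iterate_succ_apply', ih, pow_succ', map_mul res]; rfl
      rw [h, ← hκ', pow_orderOf_eq_one, map_one, AlgEquiv.one_apply]
    have hd0 : (d : l) ≠ 0 := fun h => by
      obtain ⟨e, he⟩ := hdr
      exact hrl (by rw [he, Nat.cast_mul, h, zero_mul])
    have htr := eq_self_of_tame_trivial (res κ').toRingEquiv.toRingHom π hπ d hd0 hord
      (fun x => htriv _ x) (c κ') ((hc κ').trans (mul_comm _ _)) hθκ'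
    have h1 : res κ' = res 1 := by
      rw [map_one]
      exact AlgEquiv.ext htr
    have : κ' = 1 := (galRestrict R K L S).injective h1
    rw [← hκ', this, orderOf_one]
  obtain ⟨m, hm⟩ := exists_pow_eq_self_of_coprime hcop
  refine ⟨τ, κ ^ m, ?_⟩
  rw [← pow_mul, mul_comm m r, pow_mul, hm, mul_inv_cancel_left]

end Groth.Agent.TameHom15
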